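import Cfsg.Agent.H323.OI.Pieces2
import Cfsg.Agent.H312.Orth.Core

/-!
# S3325, piece 17: `O(G) = 1` (helper808)
-/

set_option autoImplicit false

namespace Cfsg.Agent.H808.OI

open Cfsg Subgroup
open scoped commutatorElement

theorem pOne : Cfsg.Agent.H323.OI.POne := by
  intro G _ _ t htt hC K hK htK
  have hn : (oddCore G).Normal := pPrimeCore_normal 2 G
  have hfix : ∀ x ∈ oddCore G, t * x = x * t → x = 1 := by
    intro x hx h
    have h1 : x ∈ centralizer {t} ⊓ oddCore G := by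
      refine mem_inf.2 ⟨mem_centralizer_iff.2 fun y hy => ?_, hx⟩
      rw [Set.mem_singleton_iff.1 hy]
      exact h
    rw [hC] at h1
    exact mem_bot.1 h1
  obtain ⟨hinv, hab⟩ := Cfsg.Agent.H312.Orth.inverts htt hfix
  set O := oddCore G with hO
  set A : Subgroup G := centralizer (O : Set G) with hA
  have hOA : O ≤ A := fun x hx => mem_centralizer_iff.2 fun y hy => hab y hy x hx
  have hAn : A.Normal := by rw [hA]; exact Subgroup.normal_centralizer
  -- `[g, t] ∈ A`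
  have h1 : ∀ g : G, g * t * g⁻¹ * t⁻¹ ∈ A := by
    intro g
    rw [hA, mem_centralizer_iff]
    intro x hx
    have h2 : ∀ y ∈ O, (g * t * g⁻¹) * y * (g * t * g⁻¹)⁻¹ = y⁻¹ := by
      intro y hy
      have h3 := hinv _ (hn.conj_mem y hy g⁻¹)
      rw [inv_inv] at h3
      calc (g * t * g⁻¹) * y * (g * t * g⁻¹)⁻¹ = g * (t * (g⁻¹ * y * g) * t⁻¹) * g⁻¹ := by group
        _ = g * (g⁻¹ * y * g)⁻¹ * g⁻¹ := by rw [h3]
        _ = y⁻¹ := by group
    have h3 := h2 _ (hn.conj_mem x hx t⁻¹)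
    rw [inv_inv] at h3
    have h4 := hinv _ (hn.conj_mem x hx t⁻¹)
    rw [inv_inv] at h4
    have h5 : t * (t⁻¹ * x * t) * t⁻¹ = x := by group
    rw [h5] at h4
    -- `g t g⁻¹ t⁻¹ x t (g t g⁻¹)⁻¹ = (t⁻¹ x t)⁻¹ = x`
    rw [← h4] at h3
    calc x * (g * t * g⁻¹ * t⁻¹)
        = ((g * t * g⁻¹) * (t⁻¹ * x * t) * (g * t * g⁻¹)⁻¹) * (g * t * g⁻¹ * t⁻¹) := by rw [h3]
      _ = g * t * g⁻¹ * t⁻¹ * x := by group
  -- the image of `A` in `G ⧸ O`
  set A' : Subgroup (G ⧸ O) := A.map (QuotientGroup.mk' O) with hA'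
  have hA'n : A'.Normal := hAn.map _ (QuotientGroup.mk'_surjective O)
  have h6 : ∀ k : G ⧸ O, ∀ z ∈ zpowers (QuotientGroup.mk t : G ⧸ O), ⁅k, z⁆ ∈ A' := by
    have h7 : ∀ k : (G ⧸ O) ⧸ A', k * QuotientGroup.mk (QuotientGroup.mk t : G ⧸ O) =
        QuotientGroup.mk (QuotientGroup.mk t : G ⧸ O) * k := by
      intro k
      obtain ⟨k, rfl⟩ := QuotientGroup.mk_surjective k
      obtain ⟨k, rfl⟩ := QuotientGroup.mk_surjective k
      have h8 : (QuotientGroup.mk (k * t * k⁻¹ * t⁻¹) : G ⧸ O) ∈ A' := ⟨_, h1 k, rfl⟩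
      have h9 := (QuotientGroup.eq_one_iff _).2 h8
      rw [QuotientGroup.mk_mul, QuotientGroup.mk_mul, QuotientGroup.mk_mul, QuotientGroup.mk_mul,
        QuotientGroup.mk_mul, QuotientGroup.mk_mul, QuotientGroup.mk_inv, QuotientGroup.mk_inv,
        QuotientGroup.mk_inv, QuotientGroup.mk_inv, mul_inv_eq_one, mul_inv_eq_iff_eq_mul] at h9
      exact h9
    rintro k z ⟨n, rfl⟩
    rw [← QuotientGroup.eq_one_iff]
    have h8 : Commute (QuotientGroup.mk k : (G ⧸ O) ⧸ A') (QuotientGroup.mk (QuotientGroup.mk t : G ⧸ O)) := h7 _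
    have h9 := (h8.zpow_right n).eq
    rw [commutatorElement_def]
    simp only [QuotientGroup.mk_mul, QuotientGroup.mk_inv]
    have h10 : (QuotientGroup.mk ((fun x : ℤ => (QuotientGroup.mk t : G ⧸ O) ^ x) n) : (G ⧸ O) ⧸ A') =
        (QuotientGroup.mk (QuotientGroup.mk t : G ⧸ O)) ^ n := rfl
    rw [h10, mul_inv_eq_one, mul_inv_eq_iff_eq_mul]
    exact h9
  have h11 : K ≤ A' := by
    rw [hK, commutator_le]
    intro k _ z hz
    exact h6 k z hz
  obtain ⟨a, ha, hat⟩ := h11 htK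
  have htA : t ∈ A := by
    have h12 : a⁻¹ * t ∈ O := QuotientGroup.eq.1 hat
    have h13 := A.mul_mem ha (hOA h12)
    rwa [mul_inv_cancel_left] at h13
  rw [eq_bot_iff]
  intro x hx
  exact mem_bot.2 (hfix x hx (mem_centralizer_iff.1 htA x hx).symm)

end Cfsg.Agent.H808.OI
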